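import Groth.Agent.Lib.WeilClosed.Local
import Groth.Agent.Lib.GrpQuot.SubDescFam
import Mathlib.AlgebraicGeometry.Morphisms.Affine
import Mathlib.AlgebraicGeometry.Morphisms.Finite
import Mathlib.RingTheory.Finiteness.ModuleFinitePresentation
import Mathlib.LinearAlgebra.Dual.Lemmas
import Mathlib.RingTheory.Flat.EquationalCriterion
import Mathlib.Algebra.Category.Ring.Constructions

/-!
For a finite locally free `p : Z ⟶ T` and a closed subscheme of `Z`, the locus of `T` over which
it is everything is closed.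
-/

set_option autoImplicit false
set_option backward.isDefEq.respectTransparency.types false
set_option maxHeartbeats 1000000

universe u

open CategoryTheory CategoryTheory.Limits AlgebraicGeometry TensorProduct

namespace Groth.Agent.HilbBC25

theorem eq_zero_of_includeLeft {R B : Type u} [CommRing R] [CommRing B] [Algebra R B]
    [Module.Finite R B] [Module.Projective R B] {ι : Type*} (C : ι → Type u) [∀ i, CommRing (C i)]
    [∀ i, Algebra R (C i)] (hinj : ∀ r : R, (∀ i, algebraMap R (C i) r = 0) → r = 0) (z : B)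
    (hz : ∀ i, (z ⊗ₜ[R] (1 : C i) : B ⊗[R] C i) = 0) : z = 0 := by
  refine (Module.forall_dual_apply_eq_zero_iff R z).1 fun l => hinj _ fun i => ?_
  have h := congrArg (TensorProduct.lid R (C i) ∘ l.rTensor (C i)) (rfl : z ⊗ₜ[R] (1 : C i) = z ⊗ₜ 1)
  have h2 : TensorProduct.lid R (C i) (l.rTensor (C i) (z ⊗ₜ[R] (1 : C i))) = 0 := by rw [hz, map_zero, map_zero]
  rw [LinearMap.rTensor_tmul, TensorProduct.lid_tmul] at h2
  rwa [Algebra.algebraMap_eq_smul_one]

theorem injective_appTop_of_jointly {W W' S S' : Scheme.{u}} [IsAffine W] [IsAffine S] [IsAffine S']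
    {fst : W' ⟶ W} {snd : W' ⟶ S'} {q : W ⟶ S} {a : S' ⟶ S} (h : IsPullback fst snd q a) (z : Γ(W, ⊤))
    (hz : fst.appTop z = 0) :
    letI := q.appTop.hom.toAlgebra
    letI := a.appTop.hom.toAlgebra
    (z ⊗ₜ[Γ(S, ⊤)] (1 : Γ(S', ⊤)) : Γ(W, ⊤) ⊗[Γ(S, ⊤)] Γ(S', ⊤)) = 0 := by
  letI := q.appTop.hom.toAlgebra
  letI := a.appTop.hom.toAlgebra
  have hpo := isPushout_appTop_of_isPullback h
  have hT := CommRingCat.isPushout_tensorProduct Γ(S, ⊤) Γ(W, ⊤) Γ(S', ⊤)
  have e := hpo.inl_desc _ _ hT.w
  have := congrArg (fun φ => (φ : Γ(W, ⊤) ⟶ _).hom z) e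
  simp only [CommRingCat.hom_comp, RingHom.comp_apply, hz, map_zero] at this
  exact this.symm

/-- Being cut out by a closed subscheme of the base. -/
theorem exists_closed_comap_eq_bot {Z T : Scheme.{u}} (p : Z ⟶ T) [IsFinite p] [Flat p]
    [LocallyOfFinitePresentation p] (K : Z.IdealSheafData) :
    ∃ (V : Scheme.{u}) (i : V ⟶ T), IsClosedImmersion i ∧
      ∀ {T' : Scheme.{u}} (g : T' ⟶ T), (∃ z : T' ⟶ V, z ≫ i = g) ↔ K.comap (pullback.fst p g) = ⊥ := by
  let P : ∀ {T' : Scheme.{u}}, (T' ⟶ T) → Prop := fun {T'} g => K.comap (pullback.fst p g) = ⊥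
  have hP : WeilClosed.IsLocalProp P := by
    constructor
    · intro T' T'' h g hg
      show K.comap (pullback.fst p (h ≫ g)) = ⊥
      have e : pullback.fst p (h ≫ g) =
          pullback.lift (pullback.fst p (h ≫ g)) (pullback.snd p (h ≫ g) ≫ h)
            (by rw [Category.assoc, pullback.condition]) ≫ pullback.fst p g := (pullback.lift_fst _ _ _).symm
      rw [e, Scheme.IdealSheafData.comap_comp, show K.comap (pullback.fst p g) = ⊥ from hg,
        Scheme.IdealSheafData.comap_bot]
    · intro T' g hg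
      choose Zx j hj hx hPx using hg
      let c : T'.OpenCover := Scheme.Cover.mkOfCovers T' Zx j (fun x => ⟨x, hx x⟩) (fun x => hj x)
      refine GrpQuot.SubDesc.ext_openCover (c.pullback₁ (pullback.snd p g)) fun x => ?_
      rw [Scheme.IdealSheafData.comap_bot, ← Scheme.IdealSheafData.comap_comp]
      show K.comap (pullback.fst (pullback.snd p g) (j x) ≫ pullback.fst p g) = ⊥
      have h0 : K.comap (pullback.fst p (j x ≫ g)) = ⊥ := hPx x
      rw [← pullbackLeftPullbackSndIso_hom_fst p g (j x), Scheme.IdealSheafData.comap_comp, h0,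
        Scheme.IdealSheafData.comap_bot]
  refine WeilClosed.exists_closedSubscheme hP fun x => ?_
  obtain ⟨U, hU, hxU, -⟩ := exists_isAffineOpen_mem_and_subset (X := T) (x := x) (U := ⊤) trivial
  refine ⟨⟨U, hU⟩, hxU, WeilClosed.hasMin_of_pi _ fun ι C R π hinj φ hi => ?_⟩
  set g : Spec R ⟶ T := Spec.map φ ≫ hU.fromSpec
  show K.comap (pullback.fst p g) = ⊥
  let W := pullback p g
  haveI : IsAffine W := isAffine_of_isAffineHom (pullback.snd p g)
  let q : W ⟶ Spec R := pullback.snd p g
  letI := q.appTop.hom.toAlgebra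
  haveI : IsFinite q := inferInstanceAs (IsFinite (pullback.snd p g))
  haveI : Module.Finite Γ(Spec R, ⊤) Γ(W, ⊤) := IsFinite.finite_app q ⊤ (isAffineOpen_top _)
  haveI : Module.Flat Γ(Spec R, ⊤) Γ(W, ⊤) :=
    HasRingHomProperty.appTop @Flat q (inferInstanceAs (Flat (pullback.snd p g)))
  haveI : Algebra.FinitePresentation Γ(Spec R, ⊤) Γ(W, ⊤) :=
    HasRingHomProperty.appTop @LocallyOfFinitePresentation q
      (inferInstanceAs (LocallyOfFinitePresentation (pullback.snd p g)))
  haveI : Module.FinitePresentation Γ(Spec R, ⊤) Γ(W, ⊤) :=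
    Module.FinitePresentation.of_finite_of_finitePresentation _ _
  haveI : Module.Projective Γ(Spec R, ⊤) Γ(W, ⊤) := Module.Flat.projective_of_finitePresentation
  refine Scheme.IdealSheafData.ext_of_isAffine (le_antisymm (fun z hz => ?_) bot_le)
  rw [Scheme.IdealSheafData.ideal_bot, Pi.bot_apply, Ideal.mem_bot]
  letI : ∀ i, Algebra Γ(Spec R, ⊤) Γ(Spec (C i), ⊤) := fun i => (Spec.map (π i)).appTop.hom.toAlgebra
  refine eq_zero_of_includeLeft (R := Γ(Spec R, ⊤)) (fun i => Γ(Spec (C i), ⊤)) (fun r hr => ?_) z fun i => ?_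
  · refine (Scheme.ΓSpecIso R).commRingCatIsoToRingEquiv.injective ?_
    rw [map_zero]
    refine hinj _ fun i => ?_
    have := congrArg (fun ψ => (ψ : Γ(Spec R, ⊤) ⟶ C i).hom r) (Scheme.ΓSpecIso_naturality (π i))
    simp only [CommRingCat.hom_comp, RingHom.comp_apply] at this
    exact this.symm.trans ((congrArg _ (hr i)).trans (map_zero _))
  · have hsq : IsPullback (pullback.fst q (Spec.map (π i))) (pullback.snd _ _) q (Spec.map (π i)) :=
      IsPullback.of_hasPullback _ _
    refine injective_appTop_of_jointly hsq z ?_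
    have h0 : K.comap (pullback.fst p (Spec.map (π i) ≫ g)) = ⊥ := hi i
    have h1 : (K.comap (pullback.fst p g)).comap (pullback.fst q (Spec.map (π i))) = ⊥ := by
      rw [← Scheme.IdealSheafData.comap_comp, ← pullbackLeftPullbackSndIso_hom_fst p g (Spec.map (π i)),
        Scheme.IdealSheafData.comap_comp, h0, Scheme.IdealSheafData.comap_bot]
    have h2 : K.comap (pullback.fst p g) ≤ (pullback.fst q (Spec.map (π i))).ker := by
      rw [← Scheme.IdealSheafData.map_bot]
      exact Scheme.IdealSheafData.le_map_iff_comap_le.2 h1.le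
    have h3 := h2 ⟨⊤, isAffineOpen_top W⟩ hz
    rw [Scheme.Hom.ker_apply, RingHom.mem_ker] at h3
    exact h3

end Groth.Agent.HilbBC25
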