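import Groth.Prelude.Def_HilbD
import Groth.Agent.Lib.HilbBC25.Sub
import Mathlib.AlgebraicGeometry.Morphisms.FlatRank

/-!
Base change of families of closed subschemes: `HilbD.pull` is the pullback of ideal sheaves.
-/

set_option autoImplicit false
set_option backward.isDefEq.respectTransparency.types false

universe u

open CategoryTheory CategoryTheory.Limits AlgebraicGeometry

namespace Groth.Agent.HilbBC25

variable {X S : Scheme.{u}} (f : X ⟶ S)

theorem pull_eq_comap {T T' : Over S} (g : T' ⟶ T) (I : (PicF.XT f T).IdealSheafData) :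
    HilbD.pull f g I = I.comap (PicF.XTmap f g) := by
  show (pullback.snd I.subschemeι (PicF.XTmap f g)).ker = (pullback.fst (PicF.XTmap f g) I.subschemeι).ker
  rw [← pullbackSymmetry_hom_comp_fst, Scheme.Hom.ker_comp_of_isIso]

theorem XTmap_fst {T T' : Over S} (g : T' ⟶ T) :
    PicF.XTmap f g ≫ pullback.fst f T.hom = pullback.fst f T'.hom :=
  (pullback.lift_fst _ _ _).trans (Category.comp_id _)

theorem XTmap_snd {T T' : Over S} (g : T' ⟶ T) :
    PicF.XTmap f g ≫ PicF.XTproj f T = PicF.XTproj f T' ≫ g.left :=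
  pullback.lift_snd _ _ _

theorem isPullback_XTmap {T T' : Over S} (g : T' ⟶ T) :
    IsPullback (PicF.XTmap f g) (PicF.XTproj f T') (PicF.XTproj f T) g.left := by
  refine IsPullback.of_right (h₁₂ := pullback.fst f T.hom) (h₂₂ := T.hom) (v₁₃ := f) ?_
    (XTmap_snd f g) (IsPullback.of_hasPullback f T.hom)
  rw [XTmap_fst, Over.w g]
  exact IsPullback.of_hasPullback f T'.hom

theorem XTmap_comp {T T' T'' : Over S} (h : T'' ⟶ T') (g : T' ⟶ T) :
    PicF.XTmap f (h ≫ g) = PicF.XTmap f h ≫ PicF.XTmap f g := by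
  apply pullback.hom_ext
  · rw [Category.assoc, XTmap_fst, XTmap_fst, XTmap_fst]
  · rw [Category.assoc, XTmap_snd, XTmap_snd, ← Category.assoc, XTmap_snd, Category.assoc]
    rfl

theorem XTmap_id (T : Over S) : PicF.XTmap f (𝟙 T) = 𝟙 _ := by
  apply pullback.hom_ext
  · rw [XTmap_fst, Category.id_comp]
  · rw [XTmap_snd, Category.id_comp]
    simp

theorem pull_comp {T T' T'' : Over S} (h : T'' ⟶ T') (g : T' ⟶ T) (I : (PicF.XT f T).IdealSheafData) :
    HilbD.pull f (h ≫ g) I = HilbD.pull f h (HilbD.pull f g I) := by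
  simp only [pull_eq_comap, XTmap_comp, Scheme.IdealSheafData.comap_comp]

theorem pull_id {T : Over S} (I : (PicF.XT f T).IdealSheafData) : HilbD.pull f (𝟙 T) I = I := by
  rw [pull_eq_comap, XTmap_id, Scheme.IdealSheafData.comap_id]

/-- The pulled back family as a base change. -/
theorem isPullback_subscheme {T T' : Over S} (g : T' ⟶ T) (I : (PicF.XT f T).IdealSheafData) :
    IsPullback (pullback.snd (PicF.XTmap f g) I.subschemeι)
      (pullback.fst (PicF.XTmap f g) I.subschemeι ≫ PicF.XTproj f T')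
      (I.subschemeι ≫ PicF.XTproj f T) g.left :=
  ((IsPullback.of_hasPullback (PicF.XTmap f g) I.subschemeι).flip).paste_vert (isPullback_XTmap f g)

theorem isFinLocFreeOfDeg_of_isPullback {d : ℕ} {A B A' B' : Scheme.{u}} {a : A' ⟶ A} {p' : A' ⟶ B'}
    {p : A ⟶ B} {b : B' ⟶ B} (h : IsPullback a p' p b) (hp : Mor2.IsFinLocFreeOfDeg d p) :
    Mor2.IsFinLocFreeOfDeg d p' := by
  haveI := hp.1.1
  haveI := hp.1.2.1
  haveI := hp.1.2.2
  refine ⟨⟨MorphismProperty.of_isPullback h ‹IsFinite p›, MorphismProperty.of_isPullback h ‹Flat p›,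
    MorphismProperty.of_isPullback h ‹LocallyOfFinitePresentation p›⟩, fun y => ?_⟩
  rw [Scheme.Hom.finrank_of_isPullback a p' p b h, hp.2]

theorem isFinLocFreeOfDeg_pull (d : ℕ) {T T' : Over S} (g : T' ⟶ T) (I : (PicF.XT f T).IdealSheafData)
    (hI : Mor2.IsFinLocFreeOfDeg d (I.subschemeι ≫ PicF.XTproj f T)) :
    Mor2.IsFinLocFreeOfDeg d ((HilbD.pull f g I).subschemeι ≫ PicF.XTproj f T') := by
  rw [pull_eq_comap]
  refine isFinLocFreeOfDeg_of_isPullback
    ((isPullback_subscheme f g I).of_iso (I.comapIso _).symm (Iso.refl _) (Iso.refl _) (Iso.refl _)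
      (fst' := (I.comapIso (PicF.XTmap f g)).hom ≫ pullback.snd _ _)
      (snd' := (I.comap (PicF.XTmap f g)).subschemeι ≫ PicF.XTproj f T')
      (f' := I.subschemeι ≫ PicF.XTproj f T) (g' := g.left) (by simp [← Scheme.IdealSheafData.comapIso_hom_snd, -Scheme.IdealSheafData.comapIso_hom_snd]) ?_ (by simp) (by simp)) hI
  rw [Iso.refl_hom, Category.comp_id, Iso.symm_hom, Scheme.IdealSheafData.comapIso_inv_subschemeι_assoc]

end Groth.Agent.HilbBC25
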