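import Groth.Agent.Lib.HilbBC25.Basic
import Mathlib.AlgebraicGeometry.Morphisms.ClosedImmersion

/-!
The loci where an inclusion or an equality of closed subschemes holds; closed subschemes of a
closed subscheme.
-/

set_option autoImplicit false
set_option backward.isDefEq.respectTransparency.types false

universe u

open CategoryTheory CategoryTheory.Limits AlgebraicGeometry

namespace Groth.Agent.HilbBC25

theorem comap_subschemeι_eq_bot_iff {P : Scheme.{u}} (I J : P.IdealSheafData) :
    I.comap J.subschemeι = ⊥ ↔ I ≤ J := by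
  rw [← le_bot_iff, ← Scheme.IdealSheafData.le_map_iff_comap_le, Scheme.IdealSheafData.map_bot,
    Scheme.IdealSheafData.ker_subschemeι]

theorem comap_eq_bot_of_iso {A B : Scheme.{u}} (e : A ⟶ B) [IsIso e] (I : B.IdealSheafData) :
    I.comap e = ⊥ ↔ I = ⊥ := by
  refine ⟨fun h => ?_, fun h => by rw [h, Scheme.IdealSheafData.comap_bot]⟩
  have h2 := congrArg (fun K => Scheme.IdealSheafData.comap K (inv e)) h
  simp only [← Scheme.IdealSheafData.comap_comp, IsIso.inv_hom_id, Scheme.IdealSheafData.comap_id,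
    Scheme.IdealSheafData.comap_bot] at h2
  exact h2

variable {X S : Scheme.{u}} (f : X ⟶ S)

theorem pull_le_iff {T T' : Over S} (g : T' ⟶ T) (I J : (PicF.XT f T).IdealSheafData) :
    HilbD.pull f g I ≤ HilbD.pull f g J ↔
      (I.comap J.subschemeι).comap (pullback.fst (J.subschemeι ≫ PicF.XTproj f T) g.left) = ⊥ := by
  rw [pull_eq_comap, pull_eq_comap, ← comap_subschemeι_eq_bot_iff, ← Scheme.IdealSheafData.comap_comp,
    ← Scheme.IdealSheafData.comapIso_hom_fst, Category.assoc, pullback.condition,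
    ← (isPullback_subscheme f g J).isoPullback_hom_fst]
  simp only [Scheme.IdealSheafData.comap_comp]
  rw [comap_eq_bot_of_iso, comap_eq_bot_of_iso]

/-- The locus where `pull g I ≤ pull g J` is closed. -/
theorem exists_closed_pull_le {d : ℕ} (T : Over S) (I J : (PicF.XT f T).IdealSheafData)
    (hJ : Mor2.IsFinLocFreeOfDeg d (J.subschemeι ≫ PicF.XTproj f T)) :
    ∃ (V : Scheme.{u}) (i : V ⟶ T.left), IsClosedImmersion i ∧
      ∀ {T' : Over S} (g : T' ⟶ T),
        (∃ z : T'.left ⟶ V, z ≫ i = g.left) ↔ HilbD.pull f g I ≤ HilbD.pull f g J := by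
  haveI := hJ.1.1
  haveI := hJ.1.2.1
  haveI := hJ.1.2.2
  obtain ⟨V, i, hi, hV⟩ := exists_closed_comap_eq_bot (J.subschemeι ≫ PicF.XTproj f T) (I.comap J.subschemeι)
  exact ⟨V, i, hi, fun {T'} g => (hV g.left).trans (pull_le_iff f g I J).symm⟩

section Mono

variable {A B : Scheme.{u}} (i : A ⟶ B) [IsClosedImmersion i]

theorem comap_map_of_isClosedImmersion (K : A.IdealSheafData) : (K.map i).comap i = K := by
  show ((K.subschemeι ≫ i).ker).comap i = K
  rw [← Scheme.IdealSheafData.ker_fst_of_isClosedImmersion]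
  have sq : IsPullback K.subschemeι (𝟙 _) i (K.subschemeι ≫ i) := by
    simpa using ((IsPullback.of_id_snd (f := K.subschemeι)).paste_horiz (IsKernelPair.id_of_mono i))
  rw [← sq.isoPullback_inv_fst, Scheme.Hom.ker_comp_of_isIso, Scheme.IdealSheafData.ker_subschemeι]

theorem map_comap_of_le (K : B.IdealSheafData) (h : i.ker ≤ K) : (K.comap i).map i = K := by
  refine le_antisymm ?_ ?_
  · let z := IsClosedImmersion.lift i K.subschemeι (by rwa [Scheme.IdealSheafData.ker_subschemeι])
    have hz : z ≫ i = K.subschemeι := IsClosedImmersion.lift_fac _ _ _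
    have e : K = z.ker.map i := by
      rw [Scheme.IdealSheafData.map_ker, hz, Scheme.IdealSheafData.ker_subschemeι]
    have h1 : K.comap i ≤ z.ker := Scheme.IdealSheafData.le_map_iff_comap_le.1 e.le
    exact ((Scheme.IdealSheafData.map_gc i).monotone_u h1).trans e.ge
  · exact Scheme.IdealSheafData.le_map_iff_comap_le.2 le_rfl

theorem isFinLocFreeOfDeg_map {C : Scheme.{u}} {d : ℕ} (p : B ⟶ C) (K : A.IdealSheafData)
    (h : Mor2.IsFinLocFreeOfDeg d (K.subschemeι ≫ i ≫ p)) :
    Mor2.IsFinLocFreeOfDeg d ((K.map i).subschemeι ≫ p) := by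
  haveI : IsIso (K.subschemeι ≫ i).toImage := inferInstance
  show Mor2.IsFinLocFreeOfDeg d ((K.subschemeι ≫ i).imageι ≫ p)
  have e : (K.subschemeι ≫ i).imageι ≫ p = inv (K.subschemeι ≫ i).toImage ≫ K.subschemeι ≫ i ≫ p := by
    rw [IsIso.eq_inv_comp, Scheme.Hom.toImage_imageι_assoc, Category.assoc]
  haveI := h.1.1
  haveI := h.1.2.1
  haveI := h.1.2.2
  rw [e]
  refine ⟨⟨inferInstance, inferInstance, inferInstance⟩, fun y => ?_⟩
  rw [Scheme.Hom.finrank_comp_left_of_isIso]
  exact h.2 y

end Mono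

end Groth.Agent.HilbBC25
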